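import Mathlib.LinearAlgebra.Matrix.ToLin
import Mathlib.Algebra.Lie.Basic
import Mathlib.LinearAlgebra.Matrix.Determinant.Basic
import Mathlib.LinearAlgebra.Matrix.NonsingularInverse

/-!
# Three-dimensional Lie algebras `A ⋉ A²`
-/

universe u v w

namespace GrothLib.Lie13

variable {A : Type u} [CommRing A] {L : Type v} [LieRing L] [LieAlgebra A L]
  (b : Module.Basis (Fin 3) A L) (A₁ B₁ A₂ B₂ : A)

theorem eq_sum (u : L) : u = b.repr u 0 • b 0 + b.repr u 1 • b 1 + b.repr u 2 • b 2 := by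
  conv_lhs => rw [← b.sum_repr u, Fin.sum_univ_three]

theorem repr_comb (p q r : A) :
    b.repr (p • b 0 + q • b 1 + r • b 2) 0 = p ∧ b.repr (p • b 0 + q • b 1 + r • b 2) 1 = q ∧
      b.repr (p • b 0 + q • b 1 + r • b 2) 2 = r := by
  simp

/-- Coordinates of a bracket. -/
theorem repr_bracket (h01 : ⁅b 0, b 1⁆ = A₁ • b 1 + B₁ • b 2) (h02 : ⁅b 0, b 2⁆ = A₂ • b 1 + B₂ • b 2)
    (h12 : ⁅b 1, b 2⁆ = 0) (u v : L) :
    b.repr ⁅u, v⁆ 0 = 0 ∧
    b.repr ⁅u, v⁆ 1 = (b.repr u 0 * b.repr v 1 - b.repr u 1 * b.repr v 0) * A₁ +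
      (b.repr u 0 * b.repr v 2 - b.repr u 2 * b.repr v 0) * A₂ ∧
    b.repr ⁅u, v⁆ 2 = (b.repr u 0 * b.repr v 1 - b.repr u 1 * b.repr v 0) * B₁ +
      (b.repr u 0 * b.repr v 2 - b.repr u 2 * b.repr v 0) * B₂ := by
  have h10 : ⁅b 1, b 0⁆ = -(A₁ • b 1 + B₁ • b 2) := by rw [← lie_skew, h01]
  have h20 : ⁅b 2, b 0⁆ = -(A₂ • b 1 + B₂ • b 2) := by rw [← lie_skew, h02]
  have h21 : ⁅b 2, b 1⁆ = 0 := by rw [← lie_skew, h12, neg_zero]
  have key : ⁅u, v⁆ =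
      ((b.repr u 0 * b.repr v 1 - b.repr u 1 * b.repr v 0) * A₁ +
        (b.repr u 0 * b.repr v 2 - b.repr u 2 * b.repr v 0) * A₂) • b 1 +
      ((b.repr u 0 * b.repr v 1 - b.repr u 1 * b.repr v 0) * B₁ +
        (b.repr u 0 * b.repr v 2 - b.repr u 2 * b.repr v 0) * B₂) • b 2 := by
    conv_lhs => rw [eq_sum b u, eq_sum b v]
    simp only [add_lie, lie_add, smul_lie, lie_smul, lie_self, h01, h02, h12, h10, h20, h21, smul_zero,
      smul_neg, smul_add]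
    module
  obtain ⟨k0, k1, k2⟩ := repr_comb b 0
    ((b.repr u 0 * b.repr v 1 - b.repr u 1 * b.repr v 0) * A₁ +
      (b.repr u 0 * b.repr v 2 - b.repr u 2 * b.repr v 0) * A₂)
    ((b.repr u 0 * b.repr v 1 - b.repr u 1 * b.repr v 0) * B₁ +
      (b.repr u 0 * b.repr v 2 - b.repr u 2 * b.repr v 0) * B₂)
  rw [zero_smul, zero_add, ← key] at k0 k1 k2
  exact ⟨k0, k1, k2⟩

/-- The block determinant of an isomorphism preserving the plane of the last two vectors is a unit. -/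
theorem isUnit_block {M : Type w} [AddCommGroup M] [Module A M] (c : Module.Basis (Fin 3) A M)
    (φ : L ≃ₗ[A] M) (h1 : c.repr (φ (b 1)) 0 = 0) (h2 : c.repr (φ (b 2)) 0 = 0) :
    IsUnit (c.repr (φ (b 0)) 0 * (c.repr (φ (b 1)) 1 * c.repr (φ (b 2)) 2 -
      c.repr (φ (b 1)) 2 * c.repr (φ (b 2)) 1)) := by
  have h := congrArg Matrix.det
    ((LinearMap.toMatrix_comp b c b φ.symm.toLinearMap φ.toLinearMap).symm.trans
      (by rw [φ.symm_comp, LinearMap.toMatrix_id]))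
  rw [Matrix.det_mul, Matrix.det_one, mul_comm] at h
  have hd : (LinearMap.toMatrix b c φ.toLinearMap).det = c.repr (φ (b 0)) 0 *
      (c.repr (φ (b 1)) 1 * c.repr (φ (b 2)) 2 - c.repr (φ (b 1)) 2 * c.repr (φ (b 2)) 1) := by
    rw [Matrix.det_fin_three]
    simp only [LinearMap.toMatrix_apply, LinearEquiv.coe_coe, h1, h2]
    ring
  rw [← hd]
  exact IsUnit.of_mul_eq_one _ h

end GrothLib.Lie13
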